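import Cfsg.Prelude.Def_Classical

/-!
Owner: helper18. A subgroup `Q₈³` of `PSp₆(3)` and the permutations of its factors, with the conjugacies
needed to sum a class function over it and over its extension by a swap.
-/

set_option autoImplicit false

namespace CfsgLib.Known.E8Sp

open Matrix

abbrev Q8 := QuaternionGroup 2
abbrev S23 := Matrix.SpecialLinearGroup (Fin 2) (ZMod 3)
abbrev Sp6 := Matrix.symplecticGroup (Fin 3) (ZMod 3)
abbrev P6 := Cfsg.PSp 3 (ZMod 3)
abbrev M6 := Matrix (Fin 3 ⊕ Fin 3) (Fin 3 ⊕ Fin 3) (ZMod 3)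

/-- The table of `Q₈` in `SL₂(3)`. -/
def qTab : Q8 → S23
  | .a i => ⟨!![0, -1; 1, 0], by decide⟩ ^ i.val
  | .xa i => ⟨!![1, 1; 1, -1], by decide⟩ * ⟨!![0, -1; 1, 0], by decide⟩ ^ i.val

/-- `Q₈` in `SL₂(3)`. -/
def qHom : Q8 →* S23 where
  toFun := qTab
  map_one' := by decide
  map_mul' := by decide +kernel

/-- Three pairs of coordinates. -/
def blk (M : Fin 3 → S23) : M6 :=
  fromBlocks (diagonal fun l => M l 0 0) (diagonal fun l => M l 0 1) (diagonal fun l => M l 1 0)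
    (diagonal fun l => M l 1 1)

theorem blk_mul (M N : Fin 3 → S23) : blk (M * N) = blk M * blk N := by
  simp [blk, fromBlocks_multiply, diagonal_mul_diagonal, diagonal_add, Matrix.mul_apply, Fin.sum_univ_two]

theorem blk_one : blk 1 = 1 := by
  simp [blk]

theorem blk_mem (M : Fin 3 → S23) : blk M ∈ Matrix.symplecticGroup (Fin 3) (ZMod 3) := by
  have hd : ∀ l, M l 0 0 * M l 1 1 - M l 0 1 * M l 1 0 = 1 := fun l => by
    rw [← Matrix.det_fin_two]; exact (M l).2
  rw [SymplecticGroup.mem_iff, blk, Matrix.J, fromBlocks_transpose]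
  simp only [fromBlocks_multiply, diagonal_transpose, ← diagonal_one, ← diagonal_zero, diagonal_neg,
    diagonal_mul_diagonal, diagonal_add]
  congr 1 <;> refine congrArg diagonal (funext fun l => ?_) <;> first | ring1 | linear_combination hd l | linear_combination -hd l

def blkHom : (Fin 3 → S23) →* Sp6 where
  toFun M := ⟨blk M, blk_mem M⟩
  map_one' := Subtype.ext blk_one
  map_mul' M N := Subtype.ext (blk_mul M N)

/-- `SL₂(3)³` in `PSp₆(3)`. -/
def sl3 : (S23 × S23 × S23) →* P6 :=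
  ((QuotientGroup.mk' _).comp blkHom).comp
    { toFun := fun u => ![u.1, u.2.1, u.2.2]
      map_one' := by ext l; fin_cases l <;> rfl
      map_mul' := fun u v => by ext l : 1; fin_cases l <;> rfl }

/-- `Q₈³` in `PSp₆(3)`. -/
def qqq : (Q8 × Q8 × Q8) →* P6 := sl3.comp (qHom.prodMap (qHom.prodMap qHom))

theorem qqq_apply (x y w : Q8) : qqq (x, y, w) = sl3 (qHom x, qHom y, qHom w) := rfl

theorem sl3_neg (x y w : S23) : sl3 (-x, -y, -w) = sl3 (x, y, w) := by
  show QuotientGroup.mk (blkHom ![-x, -y, -w]) = QuotientGroup.mk (blkHom ![x, y, w])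
  rw [QuotientGroup.eq]
  have e : (blkHom ![-x, -y, -w])⁻¹ * blkHom ![x, y, w] = blkHom (fun _ => -1) := by
    rw [inv_mul_eq_iff_eq_mul, ← map_mul]
    congr 1
    ext l : 1
    fin_cases l <;> simp
  rw [e, Subgroup.mem_center_iff]
  intro g
  have hb : blk (fun _ => -1) = -1 := by
    ext i j; rcases i with i | i <;> rcases j with j | j <;> by_cases h : i = j <;> simp [blk, h]
  exact Subtype.ext (by show (g : M6) * blk _ = blk _ * (g : M6); rw [hb, mul_neg, neg_mul, mul_one, one_mul])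

/-- The swap of the first two factors. -/
def swapA : Sp6 := ⟨fromBlocks !![0, 1, 0; 1, 0, 0; 0, 0, 1] 0 0 !![0, 1, 0; 1, 0, 0; 0, 0, 1],
  by rw [SymplecticGroup.mem_iff]; decide +kernel⟩

/-- The swap of the last two factors. -/
def swapB : Sp6 := ⟨fromBlocks !![1, 0, 0; 0, 0, 1; 0, 1, 0] 0 0 !![1, 0, 0; 0, 0, 1; 0, 1, 0],
  by rw [SymplecticGroup.mem_iff]; decide +kernel⟩

/-- The swap of the first two factors in `PSp₆(3)`. -/
def sA : P6 := QuotientGroup.mk swapA

theorem sA_sq : sA * sA = 1 := by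
  rw [sA, ← QuotientGroup.mk_mul, show swapA * swapA = 1 from Subtype.ext (by decide +kernel), QuotientGroup.mk_one]

theorem swapA_blk (x y w : S23) : swapA * blkHom ![x, y, w] = blkHom ![y, x, w] * swapA := by
  refine Subtype.ext ?_
  show (swapA : M6) * blk _ = blk _ * (swapA : M6)
  simp only [swapA, blk, fromBlocks_multiply, Matrix.zero_mul, Matrix.mul_zero, add_zero, zero_add]
  congr 1 <;> ext i j <;> fin_cases i <;> fin_cases j <;> simp [mul_diagonal, diagonal_mul]

theorem swapB_blk (x y w : S23) : swapB * blkHom ![x, y, w] = blkHom ![x, w, y] * swapB := by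
  refine Subtype.ext ?_
  show (swapB : M6) * blk _ = blk _ * (swapB : M6)
  simp only [swapB, blk, fromBlocks_multiply, Matrix.zero_mul, Matrix.mul_zero, add_zero, zero_add]
  congr 1 <;> ext i j <;> fin_cases i <;> fin_cases j <;> simp [mul_diagonal, diagonal_mul]

theorem sA_sl3 (x y w : S23) : sA * sl3 (x, y, w) = sl3 (y, x, w) * sA :=
  congrArg (QuotientGroup.mk' (Subgroup.center Sp6)) (swapA_blk x y w)

theorem sB_sl3 (x y w : S23) :
    (QuotientGroup.mk swapB : P6) * sl3 (x, y, w) = sl3 (x, w, y) * QuotientGroup.mk swapB :=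
  congrArg (QuotientGroup.mk' (Subgroup.center Sp6)) (swapB_blk x y w)

theorem isConj_of_eq {G : Type*} [Group G] {a b g : G} (h : g * a = b * g) : IsConj a b :=
  isConj_iff.2 ⟨g, by rw [h, mul_inv_cancel_right]⟩

theorem isConj_swap (x y w : S23) : IsConj (sl3 (x, y, w)) (sl3 (y, x, w)) := isConj_of_eq (sA_sl3 x y w)

theorem isConj_swap' (x y w : S23) : IsConj (sl3 (x, y, w)) (sl3 (x, w, y)) := isConj_of_eq (sB_sl3 x y w)

/-- The type of an element of `Q₈`: trivial, central, of order four. -/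
def typ : Q8 → Fin 3 := fun x => if x = 1 then 0 else if x = .a 2 then 1 else 2

/-- One element of each type. -/
def rp : Fin 3 → Q8 := ![1, .a 2, .a 1]

theorem isConj_typ : ∀ x : Q8, ∃ u : S23, u * qHom x = qHom (rp (typ x)) * u := by
  intro x
  have key : ∀ x : Q8, ∃ u ∈ ([1, ⟨!![1, 1; 0, 1], by decide⟩, ⟨!![1, 2; 0, 1], by decide⟩,
      ⟨!![1, 1; 1, -1], by decide⟩, ⟨!![1, 1; 1, -1], by decide⟩ * ⟨!![1, 1; 0, 1], by decide⟩,
      ⟨!![1, 1; 1, -1], by decide⟩ * ⟨!![1, 2; 0, 1], by decide⟩] : List S23),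
      u * qHom x = qHom (rp (typ x)) * u := by decide +kernel
  obtain ⟨u, -, hu⟩ := key x
  exact ⟨u, hu⟩

theorem isConj_qqq (x y w : Q8) : IsConj (qqq (x, y, w)) (qqq (rp (typ x), rp (typ y), rp (typ w))) := by
  obtain ⟨a, ha⟩ := isConj_typ x
  obtain ⟨b, hb⟩ := isConj_typ y
  obtain ⟨c, hc⟩ := isConj_typ w
  refine isConj_of_eq (g := sl3 (a, b, c)) ?_
  rw [qqq_apply, qqq_apply, ← map_mul, ← map_mul]
  simp only [Prod.mk_mul_mk, ha, hb, hc]

theorem qqq_ne_one {x y w : Q8}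
    (h : swapB * blkHom ![qHom x, qHom y, qHom w] ≠ blkHom ![qHom x, qHom y, qHom w] * swapB ∨
      swapA * blkHom ![qHom x, qHom y, qHom w] ≠ blkHom ![qHom x, qHom y, qHom w] * swapA ∨
      blkHom ![qHom (.xa 0), 1, 1] * blkHom ![qHom x, qHom y, qHom w] ≠
        blkHom ![qHom x, qHom y, qHom w] * blkHom ![qHom (.xa 0), 1, 1]) :
    qqq (x, y, w) ≠ 1 := by
  intro e
  have hc := Subgroup.mem_center_iff.1 ((QuotientGroup.eq_one_iff _).1 e)
  rcases h with h | h | h <;> exact h (hc _)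

theorem qqq_swap (x y w : Q8) : sA * qqq (x, y, w) = qqq (y, x, w) * sA := sA_sl3 _ _ _

theorem isConj_coset_reduce (x y w : Q8) :
    IsConj (qqq (x, y, w) * sA) (qqq (1, rp (typ (y * x)), rp (typ w)) * sA) := by
  refine (isConj_of_eq (g := qqq (x⁻¹, 1, 1)) (b := qqq (1, y * x, w) * sA) ?_).trans ?_
  · rw [mul_assoc (qqq (1, y * x, w)), qqq_swap, ← mul_assoc, ← mul_assoc, ← map_mul, ← map_mul]
    simp [Prod.mk_mul_mk]
  obtain ⟨a, ha⟩ := isConj_typ (y * x)
  obtain ⟨c, hc⟩ := isConj_typ w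
  refine isConj_of_eq (g := sl3 (a, a, c)) ?_
  rw [mul_assoc (qqq (1, rp (typ (y * x)), rp (typ w))), qqq_apply, qqq_apply, sA_sl3, ← mul_assoc, ← mul_assoc,
    ← map_mul, ← map_mul]
  simp only [Prod.mk_mul_mk, map_one, mul_one, one_mul, ha, hc]

/-- A conjugator taking the swap to a sign change. -/
def gFix : Sp6 := ⟨fromBlocks !![1, -1, 0; 1, 1, 0; 0, 0, 1] 0 0 !![-1, 1, 0; -1, -1, 0; 0, 0, 1],
  by rw [SymplecticGroup.mem_iff]; decide +kernel⟩

/-- A conjugator taking the twisted swap to two quarter turns. -/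
def gRot : Sp6 := ⟨fromBlocks !![0, 1, 0; 1, 1, 0; 0, 0, 1] !![1, 0, 0; 2, 1, 0; 0, 0, 0]
    !![1, 0, 0; 1, 2, 0; 0, 0, 0] !![0, 2, 0; 1, 1, 0; 0, 0, 1],
  by rw [SymplecticGroup.mem_iff]; decide +kernel⟩

theorem isConj_fix (w : Q8) : IsConj (qqq (1, 1, w) * sA) (qqq (.a 2, 1, w)) := by
  have h : ∀ w : Q8, gFix * (blkHom ![qHom 1, qHom 1, qHom w] * swapA) =
      blkHom ![qHom (.a 2), qHom 1, qHom w] * gFix := by
    intro w; refine Subtype.ext ?_; revert w; decide +kernel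
  exact isConj_of_eq (g := (QuotientGroup.mk gFix : P6)) (congrArg (QuotientGroup.mk' (Subgroup.center Sp6)) (h w))

theorem isConj_rot (w : Q8) : IsConj (qqq (1, .a 2, w) * sA) (qqq (.a 1, .a 1, w)) := by
  have h : ∀ w : Q8, gRot * (blkHom ![qHom 1, qHom (.a 2), qHom w] * swapA) =
      blkHom ![qHom (.a 1), qHom (.a 1), qHom w] * gRot := by
    intro w; refine Subtype.ext ?_; revert w; decide +kernel
  exact isConj_of_eq (g := (QuotientGroup.mk gRot : P6)) (congrArg (QuotientGroup.mk' (Subgroup.center Sp6)) (h w))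

end CfsgLib.Known.E8Sp
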