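import Cfsg.Agent.Lib.Known.E8Sp.Model
import Cfsg.Agent.Lib.Known.E8Sub.FixSum

/-!
Owner: helper18. The sign sums over two 2-subgroups of `PSp₆(3)`, of order `512` and `1024`, in any
representation over a field where `2 ≠ 0` (slice of S5918).
-/

set_option autoImplicit false

namespace CfsgLib.Known.E8Sp

open Module
open CfsgLib.Known.E8Sub
open CfsgLib.Perm.AltSection (eig mem_eig)

variable {K : Type*} [Field K] {V : Type*} [AddCommGroup V] [Module K V] [FiniteDimensional K V]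

omit [FiniteDimensional K V] in
theorem fdim_conj {G : Type*} [Group G] (ρ : G →* End K V) (g x : G) : fdim (ρ (g * x * g⁻¹)) = fdim (ρ x) := by
  have e : (eig (ρ x) 1).map (ρ g) = eig (ρ (g * x * g⁻¹)) 1 := by
    ext v
    simp only [Submodule.mem_map, mem_eig, one_smul]
    constructor
    · rintro ⟨u, hu, rfl⟩
      rw [← End.mul_apply, ← map_mul, inv_mul_cancel_right, map_mul, End.mul_apply, hu]
    · intro hv
      refine ⟨ρ g⁻¹ v, ?_, ?_⟩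
      · rw [← End.mul_apply, ← map_mul, show x * g⁻¹ = g⁻¹ * (g * x * g⁻¹) by group, map_mul, End.mul_apply, hv]
      · rw [← End.mul_apply, ← map_mul, mul_inv_cancel, map_one, End.one_apply]
  have hinj : Function.Injective (ρ g) := fun u v h => by
    have h' := congrArg (ρ g⁻¹) h
    rwa [← End.mul_apply, ← End.mul_apply, ← map_mul, inv_mul_cancel, map_one, End.one_apply, End.one_apply] at h'
  rw [fdim, fdim, ← e]
  exact (LinearEquiv.finrank_eq (Submodule.equivMapOfInjective _ hinj _)).symm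

omit [FiniteDimensional K V] in
theorem sgnSum_eq_of_isConj {G : Type*} [Group G] (ρ : G →* End K V) {x y : G} (h : IsConj x y) :
    sgnSum (ρ x) = sgnSum (ρ y) := by
  obtain ⟨g, rfl⟩ := isConj_iff.1 h
  simp only [sgnSum, ← map_pow, conj_pow, fdim_conj]

/-- The sign character of `Q₈` with kernel the cyclic subgroup of the `a i`. -/
def alpha : Q8 →* ℤˣ where
  toFun x := match x with
    | .a _ => 1
    | .xa _ => -1
  map_one' := rfl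
  map_mul' := by decide

theorem sum_typ (e : Q8 →* ℤˣ) (c : Fin 3 → ℤ) (k : Fin 3 → ℤ)
    (h : ∀ j, ∑ x : Q8, (if typ x = j then ((e x : ℤˣ) : ℤ) else 0) = c j) :
    ∑ x : Q8, ((e x : ℤˣ) : ℤ) * k (typ x) = ∑ j, c j * k j := by
  simp only [← h, Finset.sum_mul, ite_mul, zero_mul]
  rw [Finset.sum_comm]
  simp

theorem coef_one : ∀ j, ∑ x : Q8, (if typ x = j then (((1 : Q8 →* ℤˣ) x : ℤˣ) : ℤ) else 0) = ![1, 1, 6] j := by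
  decide +kernel

theorem coef_alpha : ∀ j, ∑ x : Q8, (if typ x = j then ((alpha x : ℤˣ) : ℤ) else 0) = ![1, 1, -2] j := by
  decide +kernel

/-- Three characters as one. -/
def tri (e₀ e₁ e₂ : Q8 →* ℤˣ) : Q8 × Q8 × Q8 →* ℤˣ :=
  e₀.comp (MonoidHom.fst _ _) * (e₁.comp ((MonoidHom.fst _ _).comp (MonoidHom.snd _ _)) *
    e₂.comp ((MonoidHom.snd _ _).comp (MonoidHom.snd _ _)))

theorem tri_apply (e₀ e₁ e₂ : Q8 →* ℤˣ) (x y w : Q8) : tri e₀ e₁ e₂ (x, y, w) = e₀ x * (e₁ y * e₂ w) := rfl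

theorem isPGroup_qqq : IsPGroup 2 (Q8 × Q8 × Q8) :=
  IsPGroup.of_card (n := 9) (by rw [Nat.card_eq_fintype_card, Fintype.card_prod, Fintype.card_prod, QuaternionGroup.card]; norm_num)

variable (ρ : P6 →* End K V)

/-- The sign sum at an element of `Q₈³` of given types. -/
noncomputable def h1 (i j k : Fin 3) : ℤ := sgnSum (ρ (qqq (rp i, rp j, rp k)))

/-- The sign sum at an element outside `Q₈³` of given types. -/
noncomputable def h2 (i k : Fin 3) : ℤ := sgnSum (ρ (qqq (1, rp i, rp k) * sA))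

omit [FiniteDimensional K V] in
theorem h1_swap (i j k : Fin 3) : h1 ρ i j k = h1 ρ j i k := sgnSum_eq_of_isConj ρ (isConj_swap _ _ _)

omit [FiniteDimensional K V] in
theorem h1_swap' (i j k : Fin 3) : h1 ρ i j k = h1 ρ i k j := sgnSum_eq_of_isConj ρ (isConj_swap' _ _ _)

omit [FiniteDimensional K V] in
theorem qqq_neg (x y w : Q8) : qqq (.a 2 * x, .a 2 * y, .a 2 * w) = qqq (x, y, w) := by
  have hq : qHom (.a 2) = -1 := by decide +kernel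
  rw [qqq_apply, qqq_apply, map_mul, map_mul, map_mul, hq, neg_one_mul, neg_one_mul, neg_one_mul, sl3_neg]

omit [FiniteDimensional K V] in
theorem h1_neg (i j k : Fin 3) : h1 ρ i j k = h1 ρ (![1, 0, 2] i) (![1, 0, 2] j) (![1, 0, 2] k) := by
  have hn : ∀ i : Fin 3, typ (.a 2 * rp i) = ![1, 0, 2] i := by decide +kernel
  refine (sgnSum_eq_of_isConj ρ ?_)
  have h := isConj_qqq (.a 2 * rp i) (.a 2 * rp j) (.a 2 * rp k)
  rwa [qqq_neg, hn, hn, hn] at h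

theorem sum_qqq (e₀ e₁ e₂ : Q8 →* ℤˣ) (c₀ c₁ c₂ : Fin 3 → ℤ)
    (d₀ : ∀ j, ∑ x : Q8, (if typ x = j then ((e₀ x : ℤˣ) : ℤ) else 0) = c₀ j)
    (d₁ : ∀ j, ∑ x : Q8, (if typ x = j then ((e₁ x : ℤˣ) : ℤ) else 0) = c₁ j)
    (d₂ : ∀ j, ∑ x : Q8, (if typ x = j then ((e₂ x : ℤˣ) : ℤ) else 0) = c₂ j) :
    ∑ g : Q8 × Q8 × Q8, ((tri e₀ e₁ e₂ g : ℤˣ) : ℤ) * sgnSum (ρ (qqq g)) =
      ∑ i, ∑ j, ∑ k, c₀ i * (c₁ j * (c₂ k * h1 ρ i j k)) := by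
  have e : ∀ x y w, sgnSum (ρ (qqq (x, y, w))) = h1 ρ (typ x) (typ y) (typ w) := fun x y w =>
    sgnSum_eq_of_isConj ρ (isConj_qqq x y w)
  simp only [Fintype.sum_prod_type, tri_apply, e, Units.val_mul, mul_assoc, ← Finset.mul_sum]
  rw [sum_typ e₀ c₀ (fun i => ∑ y, ((e₁ y : ℤˣ) : ℤ) * ∑ w, ((e₂ w : ℤˣ) : ℤ) * h1 ρ i (typ y) (typ w)) d₀]
  refine Finset.sum_congr rfl fun i _ => ?_
  rw [sum_typ e₁ c₁ (fun j => ∑ w, ((e₂ w : ℤˣ) : ℤ) * h1 ρ i j (typ w)) d₁]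
  refine congrArg _ (Finset.sum_congr rfl fun j _ => ?_)
  rw [sum_typ e₂ c₂ (fun k => h1 ρ i j k) d₂]

/-- The coefficient of the extension. -/
noncomputable def cosetSum (c₀ c₂ : Fin 3 → ℤ) : ℤ := ∑ i, ∑ k, c₀ i * (c₂ k * h2 ρ i k)

theorem sum_coset (e₀ e₂ : Q8 →* ℤˣ) (c₀ c₂ : Fin 3 → ℤ)
    (d₀ : ∀ j, ∑ x : Q8, (if typ x = j then ((e₀ x : ℤˣ) : ℤ) else 0) = c₀ j)
    (d₂ : ∀ j, ∑ x : Q8, (if typ x = j then ((e₂ x : ℤˣ) : ℤ) else 0) = c₂ j) :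
    ∑ g : Q8 × Q8 × Q8, ((tri e₀ e₀ e₂ g : ℤˣ) : ℤ) * sgnSum (ρ (qqq g * sA)) = 8 * cosetSum ρ c₀ c₂ := by
  have e : ∀ x y w, sgnSum (ρ (qqq (x, y, w) * sA)) = h2 ρ (typ (y * x)) (typ w) := fun x y w =>
    sgnSum_eq_of_isConj ρ (isConj_coset_reduce x y w)
  simp only [Fintype.sum_prod_type, tri_apply, e]
  have r : ∀ x : Q8, (∑ y, ∑ w, (((e₀ x * (e₀ y * e₂ w) : ℤˣ)) : ℤ) * h2 ρ (typ (y * x)) (typ w)) =
      cosetSum ρ c₀ c₂ := by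
    intro x
    rw [show (∑ y, ∑ w, (((e₀ x * (e₀ y * e₂ w) : ℤˣ)) : ℤ) * h2 ρ (typ (y * x)) (typ w)) =
      ∑ q, ((e₀ q : ℤˣ) : ℤ) * ∑ w, ((e₂ w : ℤˣ) : ℤ) * h2 ρ (typ q) (typ w) by
        refine Fintype.sum_equiv (Equiv.mulRight x) _ _ fun y => ?_
        rw [Finset.mul_sum]
        refine Finset.sum_congr rfl fun w _ => ?_
        simp only [Equiv.coe_mulRight, map_mul, Units.val_mul]
        ring]
    rw [sum_typ e₀ c₀ (fun i => ∑ w, ((e₂ w : ℤˣ) : ℤ) * h2 ρ i (typ w)) d₀, cosetSum]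
    refine Finset.sum_congr rfl fun i _ => ?_
    rw [sum_typ e₂ c₂ (fun k => h2 ρ i k) d₂, Finset.mul_sum]
  rw [Finset.sum_congr rfl fun x _ => r x, Finset.sum_const, Finset.card_univ, QuaternionGroup.card]
  simp

/-- The swap of the first two factors as an automorphism. -/
def swapAut : MulAut (Q8 × Q8 × Q8) where
  toFun u := (u.2.1, u.1, u.2.2)
  invFun u := (u.2.1, u.1, u.2.2)
  left_inv _ := rfl
  right_inv _ := rfl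
  map_mul' _ _ := rfl

abbrev C2 := Multiplicative (ZMod 2)

/-- A hom out of the group of order two. -/
def ofSq {G : Type*} [Group G] (t : G) (h : t * t = 1) : C2 →* G where
  toFun u := if u = 1 then 1 else t
  map_one' := if_pos rfl
  map_mul' u v := by
    have h' : ∀ u : C2, u = 1 ∨ u = Multiplicative.ofAdd 1 := by decide
    have h1 : (Multiplicative.ofAdd (1 : ZMod 2)) ≠ 1 := by decide
    have h2 : (Multiplicative.ofAdd (1 : ZMod 2)) * Multiplicative.ofAdd 1 = 1 := by decide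
    rcases h' u with rfl | rfl <;> rcases h' v with rfl | rfl <;> simp [h1, h2, h]

/-- The extension of `Q₈³` by the swap. -/
abbrev Ext := (Q8 × Q8 × Q8) ⋊[ofSq swapAut (MulEquiv.ext fun _ => rfl)] C2

noncomputable instance : Fintype Ext := Fintype.ofEquiv _ SemidirectProduct.equivProd.symm

/-- The extension in `PSp₆(3)`. -/
def extHom : Ext →* P6 :=
  SemidirectProduct.lift qqq (ofSq sA sA_sq) (by
    intro u
    have h' : ∀ u : C2, u = 1 ∨ u = Multiplicative.ofAdd 1 := by decide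
    refine MonoidHom.ext fun g => ?_
    rcases h' u with rfl | rfl
    · simp
    · obtain ⟨x, y, w⟩ := g
      simp only [MonoidHom.comp_apply, MulEquiv.coe_toMonoidHom, MulAut.conj_apply]
      show qqq (y, x, w) = sA * qqq (x, y, w) * sA⁻¹
      rw [qqq_swap, mul_inv_cancel_right])

theorem sum_ext (f : Ext → ℤ) :
    ∑ g : Ext, f g = ∑ g : Q8 × Q8 × Q8, f ⟨g, 1⟩ + ∑ g : Q8 × Q8 × Q8, f ⟨g, Multiplicative.ofAdd 1⟩ := by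
  rw [Fintype.sum_equiv SemidirectProduct.equivProd f (fun p => f ⟨p.1, p.2⟩) fun _ => rfl,
    Fintype.sum_prod_type_right, show (Finset.univ : Finset C2) = {1, Multiplicative.ofAdd 1} by decide,
    Finset.sum_pair (by decide)]

/-- A character of the extension. -/
def extChar (e₀ e₂ : Q8 →* ℤˣ) (s : ℤˣ) : Ext →* ℤˣ :=
  SemidirectProduct.lift (tri e₀ e₀ e₂) (ofSq s (Int.units_mul_self s)) (by
    intro u
    refine MonoidHom.ext fun g => ?_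
    have h' : ∀ u : C2, u = 1 ∨ u = Multiplicative.ofAdd 1 := by decide
    obtain ⟨x, y, w⟩ := g
    rcases h' u with rfl | rfl
    · simp
    · simp only [MonoidHom.comp_apply, MulEquiv.coe_toMonoidHom, MulAut.conj_apply]
      show tri e₀ e₀ e₂ (y, x, w) = _
      rw [mul_comm _ (tri e₀ e₀ e₂ (x, y, w)), mul_inv_cancel_right, tri_apply, tri_apply]
      exact mul_left_comm _ _ _)

theorem isPGroup_ext : IsPGroup 2 Ext :=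
  IsPGroup.of_card (n := 10) (by
    rw [Nat.card_congr SemidirectProduct.equivProd, Nat.card_prod, Nat.card_eq_fintype_card,
      Nat.card_eq_fintype_card, Fintype.card_prod, Fintype.card_prod, QuaternionGroup.card]
    norm_num)

theorem sums_ext (h₂ : (2 : K) ≠ 0) (e₀ e₂ : Q8 →* ℤˣ) (c₀ c₂ : Fin 3 → ℤ)
    (d₀ : ∀ j, ∑ x : Q8, (if typ x = j then ((e₀ x : ℤˣ) : ℤ) else 0) = c₀ j)
    (d₂ : ∀ j, ∑ x : Q8, (if typ x = j then ((e₂ x : ℤˣ) : ℤ) else 0) = c₂ j) :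
    ∃ p q : ℕ, (∑ i, ∑ j, ∑ k, c₀ i * (c₀ j * (c₂ k * h1 ρ i j k))) = 512 * ((p + q : ℕ) : ℤ) ∧
      cosetSum ρ c₀ c₂ = 64 * ((p : ℤ) - q) := by
  have key : ∀ s : ℤˣ, ∃ d : ℕ, (∑ i, ∑ j, ∑ k, c₀ i * (c₀ j * (c₂ k * h1 ρ i j k))) +
      (s : ℤ) * (8 * cosetSum ρ c₀ c₂) = 1024 * (d : ℤ) := by
    intro s
    obtain ⟨d, -, hd⟩ := fix_sum_char h₂ isPGroup_ext (ρ.comp extHom) (extChar e₀ e₂ s)
    refine ⟨d, ?_⟩
    rw [show (Fintype.card Ext : ℤ) = 1024 by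
      rw [← Nat.card_eq_fintype_card, Nat.card_congr SemidirectProduct.equivProd, Nat.card_prod,
        Nat.card_eq_fintype_card, Nat.card_eq_fintype_card, Fintype.card_prod, Fintype.card_prod, QuaternionGroup.card]
      norm_num, sum_ext] at hd
    rw [← hd, ← sum_qqq ρ e₀ e₀ e₂ c₀ c₀ c₂ d₀ d₀ d₂, ← sum_coset ρ e₀ e₂ c₀ c₂ d₀ d₂, Finset.mul_sum]
    congr 1
    · refine Finset.sum_congr rfl fun g _ => ?_
      simp only [MonoidHom.comp_apply]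
      rw [show extHom ⟨g, 1⟩ = qqq g * 1 from rfl, show extChar e₀ e₂ s ⟨g, 1⟩ = tri e₀ e₀ e₂ g * 1 from rfl,
        mul_one, mul_one]
    · refine Finset.sum_congr rfl fun g _ => ?_
      simp only [MonoidHom.comp_apply]
      rw [show extHom ⟨g, Multiplicative.ofAdd 1⟩ = qqq g * sA from rfl,
        show extChar e₀ e₂ s ⟨g, Multiplicative.ofAdd 1⟩ = tri e₀ e₀ e₂ g * s from rfl, Units.val_mul]
      ring
  obtain ⟨p, hp⟩ := key 1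
  obtain ⟨q, hq⟩ := key (-1)
  refine ⟨p, q, ?_, ?_⟩ <;> push_cast at hp hq ⊢ <;> linarith

theorem sums_qqq (h₂ : (2 : K) ≠ 0) (e₀ e₁ e₂ : Q8 →* ℤˣ) (c₀ c₁ c₂ : Fin 3 → ℤ)
    (d₀ : ∀ j, ∑ x : Q8, (if typ x = j then ((e₀ x : ℤˣ) : ℤ) else 0) = c₀ j)
    (d₁ : ∀ j, ∑ x : Q8, (if typ x = j then ((e₁ x : ℤˣ) : ℤ) else 0) = c₁ j)
    (d₂ : ∀ j, ∑ x : Q8, (if typ x = j then ((e₂ x : ℤˣ) : ℤ) else 0) = c₂ j) :
    ∃ m : ℕ, (∑ i, ∑ j, ∑ k, c₀ i * (c₁ j * (c₂ k * h1 ρ i j k))) = 512 * (m : ℤ) := by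
  obtain ⟨d, -, hd⟩ := fix_sum_char h₂ isPGroup_qqq (ρ.comp qqq) (tri e₀ e₁ e₂)
  refine ⟨d, ?_⟩
  rw [← sum_qqq ρ e₀ e₁ e₂ c₀ c₁ c₂ d₀ d₁ d₂]
  simpa [Fintype.card_prod, QuaternionGroup.card] using hd

/-- The sign sums over the two local subgroups. -/
theorem sp6_sums (h₂ : (2 : K) ≠ 0) (ρ : Cfsg.PSp 3 (ZMod 3) →* Module.End K V) :
    ∃ xA xB xa xb xc y z : Cfsg.PSp 3 (ZMod 3),
      xA * xA = 1 ∧ xA ≠ 1 ∧ xB * xB = 1 ∧ xB ≠ 1 ∧ IsConj xA (xc * xc) ∧ IsConj xc (y * y) ∧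
      ∃ m p q : Fin 4 → ℕ,
        (finrank K V : ℤ) + 3 * sgnSum (ρ xA) + 18 * (sgnSum (ρ xa) + sgnSum (ρ xb)) + 108 * sgnSum (ρ xc) + 108 * sgnSum (ρ xB) = 256 * m 0 ∧
        (finrank K V : ℤ) + 3 * sgnSum (ρ xA) + 10 * (sgnSum (ρ xa) + sgnSum (ρ xb)) + 12 * sgnSum (ρ xc) - 36 * sgnSum (ρ xB) = 256 * m 1 ∧
        (finrank K V : ℤ) + 3 * sgnSum (ρ xA) + 2 * (sgnSum (ρ xa) + sgnSum (ρ xb)) - 20 * sgnSum (ρ xc) + 12 * sgnSum (ρ xB) = 256 * m 2 ∧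
        (finrank K V : ℤ) + 3 * sgnSum (ρ xA) - 6 * (sgnSum (ρ xa) + sgnSum (ρ xb)) + 12 * sgnSum (ρ xc) - 4 * sgnSum (ρ xB) = 256 * m 3 ∧
        p 0 + q 0 = m 0 ∧ 2 * (sgnSum (ρ xA) + sgnSum (ρ xc)) + 6 * (sgnSum (ρ xb) + sgnSum (ρ xB)) + 12 * sgnSum (ρ y) + 36 * sgnSum (ρ z) = 64 * ((p 0 : ℤ) - q 0) ∧
        p 2 + q 2 = m 2 ∧ 2 * (sgnSum (ρ xA) + sgnSum (ρ xc)) + 6 * (sgnSum (ρ xb) + sgnSum (ρ xB)) - 4 * sgnSum (ρ y) - 12 * sgnSum (ρ z) = 64 * ((p 2 : ℤ) - q 2) ∧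
        p 3 + q 3 = m 3 ∧ 2 * (sgnSum (ρ xA) + sgnSum (ρ xc)) - 2 * (sgnSum (ρ xb) + sgnSum (ρ xB)) - 4 * sgnSum (ρ y) + 4 * sgnSum (ρ z) = 64 * ((p 3 : ℤ) - q 3) := by
  have hn : h1 ρ 0 0 0 = finrank K V := by
    rw [h1, show ((rp 0, rp 0, rp 0) : Q8 × Q8 × Q8) = 1 by decide, map_one, map_one, sgnSum_one]
  -- the classes inside `Q₈³`
  have e111 : h1 ρ 1 1 1 = h1 ρ 0 0 0 := h1_neg ρ 1 1 1
  have eA1 : h1 ρ 0 1 0 = h1 ρ 1 0 0 := h1_swap ρ 0 1 0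
  have eA2 : h1 ρ 0 0 1 = h1 ρ 1 0 0 := (h1_swap' ρ 0 0 1).trans eA1
  have eA3 : h1 ρ 0 1 1 = h1 ρ 1 0 0 := h1_neg ρ 0 1 1
  have eA4 : h1 ρ 1 0 1 = h1 ρ 1 0 0 := (h1_neg ρ 1 0 1).trans eA1
  have eA5 : h1 ρ 1 1 0 = h1 ρ 1 0 0 := (h1_neg ρ 1 1 0).trans eA2
  have ea1 : h1 ρ 0 2 0 = h1 ρ 2 0 0 := h1_swap ρ 0 2 0
  have ea2 : h1 ρ 0 0 2 = h1 ρ 2 0 0 := (h1_swap' ρ 0 0 2).trans ea1
  have ea3 : h1 ρ 2 1 1 = h1 ρ 2 0 0 := h1_neg ρ 2 1 1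
  have ea4 : h1 ρ 1 2 1 = h1 ρ 2 0 0 := (h1_neg ρ 1 2 1).trans ea1
  have ea5 : h1 ρ 1 1 2 = h1 ρ 2 0 0 := (h1_neg ρ 1 1 2).trans ea2
  have eb1 : h1 ρ 2 0 1 = h1 ρ 2 1 0 := h1_swap' ρ 2 0 1
  have eb2 : h1 ρ 1 2 0 = h1 ρ 2 1 0 := h1_swap ρ 1 2 0
  have eb3 : h1 ρ 0 2 1 = h1 ρ 2 1 0 := (h1_swap ρ 0 2 1).trans eb1
  have eb4 : h1 ρ 1 0 2 = h1 ρ 2 1 0 := (h1_swap' ρ 1 0 2).trans eb2
  have eb5 : h1 ρ 0 1 2 = h1 ρ 2 1 0 := (h1_swap' ρ 0 1 2).trans eb3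
  have ec1 : h1 ρ 2 0 2 = h1 ρ 2 2 0 := h1_swap' ρ 2 0 2
  have ec2 : h1 ρ 0 2 2 = h1 ρ 2 2 0 := (h1_swap ρ 0 2 2).trans ec1
  have ec3 : h1 ρ 2 2 1 = h1 ρ 2 2 0 := h1_neg ρ 2 2 1
  have ec4 : h1 ρ 2 1 2 = h1 ρ 2 2 0 := (h1_neg ρ 2 1 2).trans ec1
  have ec5 : h1 ρ 1 2 2 = h1 ρ 2 2 0 := (h1_neg ρ 1 2 2).trans ec2
  -- the classes outside
  have hz : ∀ x w, sgnSum (ρ (qqq (x, 1, w))) = h1 ρ (typ x) 0 (typ w) := fun x w =>
    sgnSum_eq_of_isConj ρ (by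
      have h := isConj_qqq x 1 w
      rwa [show typ 1 = 0 by decide] at h)
  have k00 : h2 ρ 0 0 = h1 ρ 1 0 0 := (sgnSum_eq_of_isConj ρ (isConj_fix (rp 0))).trans (hz _ _)
  have k01 : h2 ρ 0 1 = h1 ρ 1 0 0 := ((sgnSum_eq_of_isConj ρ (isConj_fix (rp 1))).trans (hz _ _)).trans eA4
  have k02 : h2 ρ 0 2 = h1 ρ 2 1 0 := ((sgnSum_eq_of_isConj ρ (isConj_fix (rp 2))).trans (hz _ _)).trans eb4
  have k10 : h2 ρ 1 0 = h1 ρ 2 2 0 := sgnSum_eq_of_isConj ρ (isConj_rot (rp 0))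
  have k11 : h2 ρ 1 1 = h1 ρ 2 2 0 := (sgnSum_eq_of_isConj ρ (isConj_rot (rp 1))).trans ec3
  have k12 : h2 ρ 1 2 = h1 ρ 2 2 2 := sgnSum_eq_of_isConj ρ (isConj_rot (rp 2))
  have k21 : h2 ρ 2 1 = h2 ρ 2 0 := by
    refine sgnSum_eq_of_isConj ρ ?_
    rw [← qqq_neg 1 (rp 2) (rp 1)]
    have h := isConj_coset_reduce (.a 2 * 1) (.a 2 * rp 2) (.a 2 * rp 1)
    rwa [show typ (.a 2 * rp 2 * (.a 2 * 1)) = 2 by decide, show typ (.a 2 * rp 1) = 0 by decide] at h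
  refine ⟨qqq (rp 1, rp 0, rp 0), qqq (rp 2, rp 2, rp 2), qqq (rp 2, rp 0, rp 0), qqq (rp 2, rp 1, rp 0),
    qqq (rp 2, rp 2, rp 0), qqq (1, rp 2, rp 0) * sA, qqq (1, rp 2, rp 2) * sA, ?_, ?_, ?_, ?_, ?_, ?_, ?_⟩
  · rw [← map_mul, show ((rp 1, rp 0, rp 0) : Q8 × Q8 × Q8) * (rp 1, rp 0, rp 0) = 1 by decide, map_one]
  · exact qqq_ne_one (by decide +kernel)
  · rw [← map_mul, show ((rp 2, rp 2, rp 2) : Q8 × Q8 × Q8) * (rp 2, rp 2, rp 2) = (.a 2 * 1, .a 2 * 1, .a 2 * 1) by decide,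
      qqq_neg]
    exact map_one qqq
  · exact qqq_ne_one (by decide +kernel)
  · rw [← map_mul, show ((rp 2, rp 2, rp 0) : Q8 × Q8 × Q8) * (rp 2, rp 2, rp 0) = (.a 2 * rp 0, .a 2 * rp 0, .a 2 * rp 1) by decide,
      qqq_neg]
    exact ((isConj_swap _ _ _).trans (isConj_swap' _ _ _))
  · have h : qqq (1, rp 2, rp 0) * sA * (qqq (1, rp 2, rp 0) * sA) = qqq (rp 2, rp 2, rp 0) := by
      rw [mul_assoc, ← mul_assoc sA, qqq_swap, mul_assoc (qqq (rp 2, 1, rp 0)), sA_sq, mul_one, ← map_mul]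
      congr 1
    rw [h]
  obtain ⟨m1, hm1⟩ := sums_qqq ρ h₂ alpha 1 1 _ _ _ coef_alpha coef_one coef_one
  obtain ⟨p0, q0, hm0, hE0⟩ := sums_ext ρ h₂ 1 1 _ _ coef_one coef_one
  obtain ⟨p2, q2, hm2, hE2⟩ := sums_ext ρ h₂ alpha 1 _ _ coef_alpha coef_one
  obtain ⟨p3, q3, hm3, hE3⟩ := sums_ext ρ h₂ alpha alpha _ _ coef_alpha coef_alpha
  refine ⟨![p0 + q0, m1, p2 + q2, p3 + q3], ![p0, 0, p2, p3], ![q0, 0, q2, q3], ?_⟩
  simp only [cosetSum, Fin.sum_univ_three, Matrix.cons_val_zero, Matrix.cons_val_one, Matrix.cons_val,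
    hn, e111, eA1, eA2, eA3, eA4, eA5, ea1, ea2, ea3, ea4, ea5, eb1, eb2, eb3, eb4, eb5, ec1, ec2, ec3, ec4, ec5,
    k00, k01, k02, k10, k11, k12, k21] at hm0 hm1 hm2 hm3 hE0 hE2 hE3 ⊢
  change _ ∧ _
  simp only [h1, h2] at hm0 hm1 hm2 hm3 hE0 hE2 hE3 ⊢
  push_cast at hm0 hm1 hm2 hm3 hE0 hE2 hE3 ⊢
  refine ⟨?_, ?_, ?_, ?_, trivial, ?_, trivial, ?_, trivial, ?_⟩ <;> linarith

end CfsgLib.Known.E8Sp
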